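import Groth.Agent.Deform.AVTrace.Trace
import Groth.Agent.Deform.AVFactor
import Groth.Agent.Deform.Bundle.Isotrivial
import Groth.Agent.MorLib.GeomFibre
import Groth.Agent.CurveModel.Basic
import Groth.Agent.S11099
import Mathlib.AlgebraicGeometry.SpreadingOut
import Mathlib.AlgebraicGeometry.Geometrically.Integral
import Mathlib.AlgebraicGeometry.ZariskisMainTheorem

/-!
# Equivariant morphisms to an abelian variety from a generically finite equivariant cover

If an abelian variety `A` acts on a smooth variety `X`, and an equivariant, dominant and generically finite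
`W → X` has an equivariant morphism to `A`, then the trace of the latter is, up to a multiple, a morphism
`φ : X → A` with `φ (g · x) = φ x + n g`.
-/

set_option autoImplicit false
set_option linter.style.haveILetI false
set_option maxHeartbeats 400000

universe u

open CategoryTheory CategoryTheory.Limits MonoidalCategory CartesianMonoidalCategory AlgebraicGeometry
open scoped MonObj

attribute [local instance] CategoryTheory.Hom.monoid CategoryTheory.Hom.group

namespace Groth.Agent.Deform.AVTrace

variable {k : Type u} [Field k]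

local notation "𝒱" => Over (Spec (CommRingCat.of k))

theorem act_one' {X T : 𝒱} {A : 𝒱} [GrpObj A] (a : AlgGrp.Action A X) (x : T ⟶ X) : lift 1 x ≫ a.act = x := by
  have := congrArg (fun m => lift (toUnit T) x ≫ m) a.one_act
  simp only [lift_whiskerRight_assoc, lift_leftUnitor_hom] at this
  exact this

/-- The generic point of an integral scheme which is isolated in its fibre is alone in it. -/
theorem eq_genericPoint_of_quasiFiniteAt {W X : Scheme.{u}} [IsIntegral W] (f : W ⟶ X) [LocallyOfFiniteType f]
    (hq : f.QuasiFiniteAt (genericPoint W)) {w : W} (hw : f w = f (genericPoint W)) : w = genericPoint W := by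
  let η₀ := genericPoint W
  let v : f.fiber (f η₀) := (f.fiberHomeo (f η₀)).symm ⟨w, hw⟩
  have hv : f.fiberι (f η₀) v = w := f.fiberι_fiberHomeo_symm _ _
  have hη : f.fiberι (f η₀) (f.asFiber η₀) = η₀ := f.fiberι_asFiber η₀
  have hsp : f.asFiber η₀ ⤳ v := by
    rw [← (f.fiberι (f η₀)).isEmbedding.isInducing.specializes_iff, hv, hη]
    exact genericPoint_specializes w
  have := hsp.mem_closed hq.isClopen_singleton_asFiber.1 rfl
  rw [← hv, show v = f.asFiber η₀ from this, hη]

/-- The residue field at a point, as an algebra over the ground field. -/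
@[reducible] noncomputable def resAlgebra (Y : 𝒱) (y : Y.left) : Algebra k (Y.left.residueField y) :=
  (Spec.preimage (Y.left.fromSpecResidueField y ≫ Y.hom)).hom.toAlgebra

/-- A point over a field inclusion. -/
theorem exists_algHom (Y : 𝒱) (y : Y.left) {Om : Type u} [Field Om] [Algebra k Om] (x : sp k Om ⟶ Y)
    (hx : x.left (IsLocalRing.closedPoint Om) = y) :
    letI := resAlgebra Y y
    ∃ σ : Y.left.residueField y →ₐ[k] Om, Spec.map (CommRingCat.ofHom σ.toRingHom) ≫ Y.left.fromSpecResidueField y =
      x.left := by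
  letI := resAlgebra Y y
  let x₀ : Spec (CommRingCat.of Om) ⟶ Y.left := x.left
  have hx₀ : x₀ (IsLocalRing.closedPoint Om) = y := hx
  subst hx₀
  let φ : Y.left.residueField (x₀ (IsLocalRing.closedPoint Om)) ⟶ CommRingCat.of Om :=
    Y.left.descResidueField (Scheme.stalkClosedPointTo x₀)
  have hφ : Spec.map φ ≫ Y.left.fromSpecResidueField _ = x.left :=
    Scheme.descResidueField_stalkClosedPointTo_fromSpecResidueField Om Y.left x₀
  refine ⟨{ φ.hom with commutes' := fun r => ?_ }, hφ⟩
  have h : Spec.preimage (Y.left.fromSpecResidueField _ ≫ Y.hom) ≫ φ = CommRingCat.ofHom (algebraMap k Om) := by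
    apply Spec.map_injective
    rw [Spec.map_comp, Spec.map_preimage, ← Category.assoc, hφ]
    exact Over.w x
  exact ConcreteCategory.congr_hom h r

/-- A point with values in the function field extends to the whole smooth variety. -/
theorem exists_extension (A X : 𝒱) [GrpObj A] [IsProper A.hom] [Smooth X.hom] [IsIntegral X.left]
    (ηX : X.left) (hgen : ηX = genericPoint X.left) :
    letI := resAlgebra X ηX
    ∀ (c : sp k (X.left.residueField ηX) ⟶ A), ∃ φ : X ⟶ A,
      X.left.fromSpecResidueField ηX ≫ φ.left = c.left := by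
  intro c
  haveI : IsLocallyNoetherian X.left := LocallyOfFiniteType.isLocallyNoetherian X.hom
  have hfld : IsField (X.left.presheaf.stalk ηX) := by
    rw [hgen]
    exact Semifield.toIsField X.left.functionField
  letI := hfld.toField
  haveI : IsIso (X.left.residue ηX) := by
    refine (ConcreteCategory.isIso_iff_bijective _).mpr ⟨?_, X.left.residue_surjective ηX⟩
    exact RingHom.injective (X.left.residue ηX).hom
  let c₀ : Spec (X.left.presheaf.stalk ηX) ⟶ A.left := inv (Spec.map (X.left.residue ηX)) ≫ c.left
  have hc₀ : c₀ ≫ A.hom = X.left.fromSpecStalk ηX ≫ X.hom := by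
    rw [Category.assoc, IsIso.inv_comp_eq, ← Category.assoc]
    exact (Over.w c).trans (Spec.map_preimage _)
  obtain ⟨U, hU, f, hf, hfw⟩ := spread_out_of_isGermInjective' X.hom A.hom c₀ hc₀
  haveI : GrpObj (Over.mk A.hom) := ‹GrpObj A›
  have hUd : Dense (U : Set X.left) := U.2.dense ⟨_, hU⟩
  obtain ⟨φ, ⟨hφw, hφU⟩, -⟩ := S11099.result (R := k) X.hom A.hom U (fun y => by
    rw [show {y' | X.hom.base y' = X.hom.base y} = Set.univ from
      Set.eq_univ_of_forall fun y' => Subsingleton.elim (α := PrimeSpectrum k) _ _, Set.inter_univ]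
    exact hUd y) f hfw
  refine ⟨Over.homMk φ hφw, ?_⟩
  show X.left.fromSpecResidueField ηX ≫ φ = c.left
  rw [show X.left.fromSpecResidueField ηX = Spec.map (X.left.residue ηX) ≫ X.left.fromSpecStalk ηX from rfl,
    Category.assoc, ← Scheme.Opens.fromSpecStalkOfMem_ι U ηX hU, Category.assoc, hφU, ← hf]
  exact IsIso.hom_inv_id_assoc _ _

/-- The product over the lifts of a geometric generic point. -/
theorem fibre_formula (A X W : 𝒱) [GrpObj A] [IsCommMonObj A] [IsIntegral W.left] (π : W ⟶ X)
    [LocallyOfFiniteType π.left] (hq : π.left.QuasiFiniteAt (genericPoint W.left)) (φW : W ⟶ A) (φ : X ⟶ A) (e : ℕ) :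
    letI := resAlgebra X (π.left (genericPoint W.left))
    letI := resAlgebra W (genericPoint W.left)
    letI : Algebra (X.left.residueField (π.left (genericPoint W.left))) (W.left.residueField (genericPoint W.left)) :=
      (π.left.residueFieldMap (genericPoint W.left)).hom.toAlgebra
    ∀ [Module.Finite (X.left.residueField (π.left (genericPoint W.left))) (W.left.residueField (genericPoint W.left))]
      [IsScalarTower k (X.left.residueField (π.left (genericPoint W.left))) (W.left.residueField (genericPoint W.left))]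
      (ξK : sp k (X.left.residueField (π.left (genericPoint W.left))) ⟶ X)
      (ξL : sp k (W.left.residueField (genericPoint W.left)) ⟶ W)
      (c : sp k (X.left.residueField (π.left (genericPoint W.left))) ⟶ A),
      ξK.left = X.left.fromSpecResidueField (π.left (genericPoint W.left)) →
      ξL.left = W.left.fromSpecResidueField (genericPoint W.left) →
      ξL ≫ π = mapSp (IsScalarTower.toAlgHom k _ _) ≫ ξK → ξK ≫ φ = c →
      (∀ (Om : Type u) [Field Om] [IsAlgClosed Om] [Algebra (X.left.residueField (π.left (genericPoint W.left))) Om]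
        [Algebra k Om] [IsScalarTower k (X.left.residueField (π.left (genericPoint W.left))) Om],
        mapSp (IsScalarTower.toAlgHom k (X.left.residueField (π.left (genericPoint W.left))) Om) ≫ c =
          (∏ σ : W.left.residueField (genericPoint W.left) →ₐ[X.left.residueField (π.left (genericPoint W.left))] Om,
            mapSp (σ.restrictScalars k) ≫ ξL ≫ φW) ^ e) →
      ∀ (Om : Type u) [Field Om] [IsAlgClosed Om] [Algebra k Om] (x : sp k Om ⟶ X),
        x.left (IsLocalRing.closedPoint Om) = π.left (genericPoint W.left) →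
        ∃ (_ : Fintype {w : sp k Om ⟶ W // w ≫ π = x}), Nonempty {w : sp k Om ⟶ W // w ≫ π = x} ∧
          x ≫ φ = (∏ w : {w : sp k Om ⟶ W // w ≫ π = x}, w.1 ≫ φW) ^ e := by
  intro _ _ ξK ξL c hξK hξL hξ hφ hc
  let ηW := genericPoint W.left
  let ηX := π.left ηW
  let K := X.left.residueField ηX
  let L := W.left.residueField ηW
  letI : Algebra k K := resAlgebra X ηX
  letI : Algebra k L := resAlgebra W ηW
  letI : Algebra K L := (π.left.residueFieldMap ηW).hom.toAlgebra
  intro Om _ _ _ x hx
  obtain ⟨j, hj⟩ := exists_algHom X ηX x hx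
  letI : Algebra K Om := j.toRingHom.toAlgebra
  haveI : IsScalarTower k K Om := IsScalarTower.of_algebraMap_eq' j.comp_algebraMap.symm
  have hjx : mapSp (IsScalarTower.toAlgHom k K Om) ≫ ξK = x := Over.OverMorphism.ext (by
    rw [Over.comp_left, hξK]; exact hj)
  let F : (L →ₐ[K] Om) → {w : sp k Om ⟶ W // w ≫ π = x} := fun σ =>
    ⟨mapSp (σ.restrictScalars k) ≫ ξL, by
      rw [Category.assoc, hξ, ← Category.assoc, ← mapSp_comp, ← hjx]
      congr 2
      exact AlgHom.ext fun r => σ.commutes r⟩
  have hF : Function.Bijective F := by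
    refine ⟨fun σ τ h => ?_, fun w => ?_⟩
    · have h1 : Spec.map (CommRingCat.ofHom (σ.restrictScalars k).toRingHom) ≫ W.left.fromSpecResidueField ηW =
          Spec.map (CommRingCat.ofHom (τ.restrictScalars k).toRingHom) ≫ W.left.fromSpecResidueField ηW :=
        by simpa [F, hξL, mapSp_left] using congrArg (fun v => v.1.left) h
      rw [cancel_mono, Spec.map_inj] at h1
      exact AlgHom.ext fun r => ConcreteCategory.congr_hom h1 r
    · have hw : π.left (w.1.left (IsLocalRing.closedPoint Om)) = π.left ηW := by
        exact (congrArg (fun v : sp k Om ⟶ X => v.left (IsLocalRing.closedPoint Om)) w.2).trans hx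
      obtain ⟨σ, hσ⟩ := exists_algHom W ηW w.1 (eq_genericPoint_of_quasiFiniteAt π.left hq hw)
      have h2 : σ.comp (IsScalarTower.toAlgHom k K L) = IsScalarTower.toAlgHom k K Om := by
        refine AlgHom.ext fun r => ?_
        have h3 : mapSp (σ.comp (IsScalarTower.toAlgHom k K L)) ≫ ξK =
            mapSp (IsScalarTower.toAlgHom k K Om) ≫ ξK := by
          rw [hjx, mapSp_comp, Category.assoc, ← hξ, ← Category.assoc, ← w.2]
          congr 1
          exact Over.OverMorphism.ext (by rw [Over.comp_left, hξL]; exact hσ)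
        have h4 := congrArg CommaMorphism.left h3
        simp only [Over.comp_left, mapSp_left, hξK] at h4
        rw [cancel_mono, Spec.map_inj] at h4
        exact ConcreteCategory.congr_hom h4 r
      exact ⟨{ σ with commutes' := fun r => DFunLike.congr_fun h2 r }, Subtype.ext (Over.OverMorphism.ext (by
        show Spec.map _ ≫ ξL.left = _
        rw [hξL]; exact hσ))⟩
  letI : Fintype {w : sp k Om ⟶ W // w ≫ π = x} := Fintype.ofBijective F hF
  refine ⟨inferInstance, ⟨F (IsAlgClosed.lift (M := Om))⟩, ?_⟩
  refine ((congrArg (· ≫ φ) hjx.symm).trans ((Category.assoc _ _ _).trans ?_))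
  rw [hφ, hc Om]
  congr 1
  exact Fintype.prod_bijective F hF _ _ fun σ => (Category.assoc _ _ _).symm

/-- A point over a residue field lies at that point. -/
theorem pt_apply (Y : 𝒱) (y : Y.left) (Om : Type u) [Field Om] [Algebra k Om] [Algebra k (Y.left.residueField y)]
    (f : Y.left.residueField y →ₐ[k] Om) (ξ : sp k (Y.left.residueField y) ⟶ Y)
    (hξ : ξ.left = Y.left.fromSpecResidueField y) (t : (sp k Om).left) : (mapSp f ≫ ξ).left t = y := by
  have h : ξ.left ((mapSp f).left t) ∈ Set.range ξ.left := ⟨_, rfl⟩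
  rw [hξ] at h
  erw [Scheme.range_fromSpecResidueField] at h
  rw [Over.comp_left, Scheme.Hom.comp_apply, hξ]
  exact h

/-- A geometric point at the generic point. -/
theorem exists_generic_point (P : 𝒱) [IsIntegral P.left] :
    ∃ (Om : Type u) (_ : Field Om) (_ : IsAlgClosed Om) (_ : Algebra k Om) (z : sp k Om ⟶ P),
      ∀ t, z.left t = genericPoint P.left := by
  letI iK : Algebra k (P.left.residueField (genericPoint P.left)) := resAlgebra P (genericPoint P.left)
  obtain ⟨Om, iF, iC, iA, f, -⟩ : ∃ (Om : Type u) (_ : Field Om) (_ : IsAlgClosed Om) (_ : Algebra k Om)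
      (_ : P.left.residueField (genericPoint P.left) →ₐ[k] Om), True :=
    ⟨AlgebraicClosure (P.left.residueField (genericPoint P.left)), inferInstance, inferInstance, inferInstance,
      IsScalarTower.toAlgHom k (P.left.residueField (genericPoint P.left)) _, trivial⟩
  obtain ⟨ξ, hξ⟩ : ∃ ξ : sp k (P.left.residueField (genericPoint P.left)) ⟶ P,
      ξ.left = P.left.fromSpecResidueField (genericPoint P.left) :=
    ⟨Over.homMk (P.left.fromSpecResidueField (genericPoint P.left))
      (Spec.map_preimage (P.left.fromSpecResidueField (genericPoint P.left) ≫ P.hom)).symm, rfl⟩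
  exact ⟨Om, iF, iC, iA, mapSp f ≫ ξ, pt_apply P (genericPoint P.left) Om f ξ hξ⟩

/-- The equivariant morphism obtained by taking the trace. -/
theorem exists_equivariant (A X W : 𝒱) [GrpObj A] [IsProper A.hom] [Smooth A.hom] [ConnectedSpace A.left]
    [Smooth X.hom] [IsSeparated X.hom] [IsIntegral X.left] [LocallyOfFiniteType W.hom] [IsIntegral W.left]
    (a : AlgGrp.Action A X) (b : AlgGrp.Action A W) (π : W ⟶ X) (hπ : b.act ≫ π = (A ◁ π) ≫ a.act)
    [IsDominant π.left] (hq : π.left.QuasiFiniteAt (genericPoint W.left)) (φW : W ⟶ A)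
    (hφW : ∀ (T : 𝒱) (g : T ⟶ A) (w : T ⟶ W), lift g w ≫ b.act ≫ φW = g * (w ≫ φW)) :
    ∃ (φ : X ⟶ A) (n : ℕ), 0 < n ∧ ∀ (T : 𝒱) (g : T ⟶ A) (x : T ⟶ X),
      lift g x ≫ a.act ≫ φ = (x ≫ φ) * g ^ n := by
  classical
  haveI : GeometricallyIntegral A.hom := AVFactor.geometricallyIntegral_smooth A
  haveI : IsCommMonObj A := isCommMonObj_of_isProper_of_geometricallyIntegral A
  haveI : LocallyOfFiniteType π.left :=
    haveI : LocallyOfFiniteType (π.left ≫ X.hom) := by rw [Over.w π]; infer_instance
    locallyOfFiniteType_of_comp π.left X.hom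
  haveI : IsLocallyNoetherian X.left := LocallyOfFiniteType.isLocallyNoetherian X.hom
  -- the generic points and the function fields
  let ηW := genericPoint W.left
  let ηX := π.left ηW
  have hgen : ηX = genericPoint X.left := CurveModel.map_genericPoint π.left
  let K := X.left.residueField ηX
  let L := W.left.residueField ηW
  letI : Algebra k K := resAlgebra X ηX
  letI : Algebra k L := resAlgebra W ηW
  letI : Algebra K L := (π.left.residueFieldMap ηW).hom.toAlgebra
  haveI : Module.Finite K L := MorLib.GF.finite_residueFieldMap' π.left ηW hq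
  haveI : IsScalarTower k K L := by
    refine IsScalarTower.of_algebraMap_eq' ?_
    have h : Spec.preimage (W.left.fromSpecResidueField ηW ≫ W.hom) =
        Spec.preimage (X.left.fromSpecResidueField ηX ≫ X.hom) ≫ π.left.residueFieldMap ηW := by
      apply Spec.map_injective
      rw [Spec.map_comp, Spec.map_preimage, Spec.map_preimage, Scheme.Hom.SpecMap_residueFieldMap_fromSpecResidueField_assoc,
        Over.w π]
    exact congrArg CommRingCat.Hom.hom h
  let ξK : sp k K ⟶ X := Over.homMk (X.left.fromSpecResidueField ηX)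
    (Spec.map_preimage (X.left.fromSpecResidueField ηX ≫ X.hom)).symm
  let ξL : sp k L ⟶ W := Over.homMk (W.left.fromSpecResidueField ηW)
    (Spec.map_preimage (W.left.fromSpecResidueField ηW ≫ W.hom)).symm
  have hξ : ξL ≫ π = mapSp (IsScalarTower.toAlgHom k K L) ≫ ξK :=
    Over.OverMorphism.ext (π.left.SpecMap_residueFieldMap_fromSpecResidueField ηW).symm
  obtain ⟨e, c, he, hc⟩ := exists_trace (K := K) A L (ξL ≫ φW)
  -- extend to all of `X`
  obtain ⟨φ, hφ'⟩ := exists_extension A X ηX hgen c
  have hφ : ξK ≫ φ = c := Over.OverMorphism.ext hφ'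
  have key := fibre_formula A X W π hq φW φ e ξK ξL c rfl rfl hξ hφ hc
  -- the generic point of `A ⊗ X`
  haveI : IsIntegral (A ⊗ X).left := inferInstanceAs (IsIntegral (pullback A.hom X.hom))
  let P := A ⊗ X
  obtain ⟨Om, _, _, _, z, hz⟩ := exists_generic_point P
  haveI : Surjective a.act.left := ⟨fun x => ⟨(lift (1 : X ⟶ A) (𝟙 X)).left x, by
    rw [← Scheme.Hom.comp_apply, ← Over.comp_left, act_one']
    rfl⟩⟩
  haveI : Surjective (snd A X).left := inferInstanceAs (Surjective (pullback.snd A.hom X.hom))
  have hx₁ : (z ≫ a.act).left (IsLocalRing.closedPoint Om) = ηX := by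
    exact ((congrArg _ (hz _)).trans (CurveModel.map_genericPoint _)).trans hgen.symm
  have hx₂ : (z ≫ snd A X).left (IsLocalRing.closedPoint Om) = ηX := by
    exact ((congrArg _ (hz _)).trans (CurveModel.map_genericPoint _)).trans hgen.symm
  obtain ⟨I₁, -, h₁⟩ := key Om _ hx₁
  obtain ⟨I₂, hne, h₂⟩ := key Om _ hx₂
  let g := z ≫ fst A X
  have hz' : lift g (z ≫ snd A X) = z := by rw [← comp_lift, lift_fst_snd, Category.comp_id]
  have hact : ∀ (T : 𝒱) (g : T ⟶ A) (w : T ⟶ W), (lift g w ≫ b.act) ≫ π = lift g (w ≫ π) ≫ a.act :=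
    fun T g w => by rw [Category.assoc, hπ, lift_whiskerLeft_assoc]
  let E : {w : sp k Om ⟶ W // w ≫ π = z ≫ snd A X} ≃ {w : sp k Om ⟶ W // w ≫ π = z ≫ a.act} :=
    { toFun := fun w => ⟨lift g w.1 ≫ b.act, by rw [hact, w.2, hz']⟩
      invFun := fun w => ⟨lift g⁻¹ w.1 ≫ b.act, by
        rw [hact, w.2]
        conv_lhs => rw [← hz']
        rw [Bundle.act_act, inv_mul_cancel, act_one']⟩
      left_inv := fun w => Subtype.ext (by
        show lift g⁻¹ (lift g w.1 ≫ b.act) ≫ b.act = w.1
        rw [Bundle.act_act, inv_mul_cancel, act_one'])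
      right_inv := fun w => Subtype.ext (by
        show lift g (lift g⁻¹ w.1 ≫ b.act) ≫ b.act = w.1
        rw [Bundle.act_act, mul_inv_cancel, act_one']) }
  let s := Fintype.card {w : sp k Om ⟶ W // w ≫ π = z ≫ snd A X}
  refine ⟨φ, s * e, Nat.mul_pos (Fintype.card_pos_iff.mpr hne) he, fun T g' x' => ?_⟩
  have hgeneric : z ≫ (a.act ≫ φ) = z ≫ ((snd A X ≫ φ) * fst A X ^ (s * e)) := by
    rw [MonObj.comp_mul, MonObj.comp_pow, ← Category.assoc, ← Category.assoc, h₁, h₂, pow_mul, ← mul_pow,
      ← Fintype.prod_equiv E (fun w => g * (w.1 ≫ φW)) (fun w => w.1 ≫ φW) fun w => by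
        rw [← hφW]; exact (Category.assoc _ _ _).symm, Finset.prod_mul_distrib, Finset.prod_const, Finset.card_univ, mul_comm]
  have hall : a.act ≫ φ = (snd A X ≫ φ) * fst A X ^ (s * e) := by
    haveI : IsDominant z.left := ⟨by
      refine dense_iff_closure_eq.2 (Set.eq_univ_of_forall fun y => ?_)
      have hmem : genericPoint P.left ∈ Set.range z.left :=
        Exists.intro (IsLocalRing.closedPoint Om : PrimeSpectrum Om) (hz _)
      refine closure_mono (Set.singleton_subset_iff.2 hmem) ?_
      exact specializes_iff_mem_closure.1 (genericPoint_specializes y)⟩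
    exact Over.OverMorphism.ext (ext_of_isDominant_of_isSeparated A.hom
      ((Over.w _).trans (Over.w _).symm) z.left (congrArg CommaMorphism.left hgeneric))
  rw [hall, MonObj.comp_mul, MonObj.comp_pow, lift_snd_assoc, lift_fst]

end Groth.Agent.Deform.AVTrace
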