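import Groth.Agent.VarDim.FibreDim
import Mathlib.RingTheory.Ideal.KrullsHeightTheorem
import Mathlib.RingTheory.Ideal.MinimalPrime.Noetherian
import Mathlib.AlgebraicGeometry.FunctionField

/-!
# Cutting a transversal slice to a subvariety through a closed point
-/

set_option autoImplicit false

universe u

open CategoryTheory AlgebraicGeometry Order TopologicalSpace

namespace Groth.Agent.Deform.AVTrace

open VarDim

variable {k : Type u} [Field k]

/-- Through a closed point of the closure of `o` there is a subvariety of complementary dimension meeting that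
closure only there, locally. -/
theorem exists_cut {X : Scheme.{u}} [IsIntegral X] (f : X ⟶ Spec (CommRingCat.of k)) [LocallyOfFiniteType f]
    {o x₀ : X} (h : o ⤳ x₀) (hx₀ : IsClosed ({x₀} : Set X)) :
    ∃ (P : X) (N : X.Opens), x₀ ∈ N ∧ P ⤳ x₀ ∧ deg f (genericPoint X) ≤ deg f o + deg f P ∧
      ∀ y ∈ N, o ⤳ y → P ⤳ y → y = x₀ := by
  classical
  obtain ⟨V, hV, hxV, -⟩ := exists_isAffineOpen_mem_and_subset (x := x₀) (U := (⊤ : X.Opens)) trivial
  obtain ⟨m, rfl⟩ := exists_fromSpec_eq hV hxV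
  obtain ⟨q, rfl⟩ := exists_fromSpec_eq hV (h.mem_open V.2 hxV)
  have hqm : q ≤ m := (fromSpec_specializes_iff hV q m).1 h
  obtain ⟨_, hft⟩ := exists_algebra f hV
  haveI := hft
  haveI : IsNoetherianRing Γ(X, V) := Algebra.FiniteType.isNoetherianRing k _
  haveI : Nonempty V := ⟨⟨_, hxV⟩⟩
  obtain ⟨s, hsmin, hscard⟩ := exists_finset_cut k hqm
  have hm0 : coheight m = 0 := by
    rw [deg_eq_coheight f hV, (closedPoint_iff_deg_eq_zero f _).1 hx₀, Nat.cast_zero]
  have hsm : Ideal.span (s : Set Γ(X, V)) ≤ m.asIdeal := le_sup_right.trans hsmin.1.2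
  obtain ⟨P, hP, hPm⟩ := Ideal.exists_minimalPrimes_le hsm
  let P' : PrimeSpectrum Γ(X, V) := ⟨P, hP.1.1⟩
  have hIfin := Ideal.finite_minimalPrimes_of_isNoetherianRing Γ(X, V) (q.asIdeal ⊔ Ideal.span (s : Set Γ(X, V)))
  let F := (hIfin.sdiff (t := {m.asIdeal})).toFinset
  have hex : ∀ Q ∈ F, ∃ a ∈ Q, a ∉ m.asIdeal := fun Q hQ => by
    obtain ⟨hQ1, hQ2⟩ := (Set.Finite.mem_toFinset _).1 hQ
    by_contra hcon
    push_neg at hcon
    exact hQ2 (le_antisymm hcon (hsmin.2 hQ1.1 hcon))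
  choose! g hg using hex
  let a := ∏ Q ∈ F, g Q
  have ham : a ∉ m.asIdeal := fun ha => by
    obtain ⟨Q, hQ, hQm⟩ := Ideal.IsPrime.prod_mem_iff.1 ha
    exact (hg Q hQ).2 hQm
  have hgen : ∃ b : PrimeSpectrum Γ(X, V), hV.fromSpec b = genericPoint X :=
    exists_fromSpec_eq hV ((genericPoint_specializes (hV.fromSpec m)).mem_open V.2 hxV)
  refine ⟨hV.fromSpec P', hV.fromSpec ''ᵁ (PrimeSpectrum.basicOpen a), ⟨m, ham, rfl⟩,
    (fromSpec_specializes_iff hV P' m).2 hPm, ?_, ?_⟩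
  · obtain ⟨b, hb⟩ := hgen
    haveI : IsDomain Γ(X, V) := inferInstance
    have hb0 : b = (⊥ : PrimeSpectrum Γ(X, V)) := le_antisymm
      ((fromSpec_specializes_iff hV b ⊥).1 (hb ▸ genericPoint_specializes _)) bot_le
    obtain ⟨d, hd, -⟩ := exists_dim_eq_trdeg k Γ(X, V)
    have h1 := height_add_coheight_eq k d Γ(X, V) hd P'
    have h2 := height_add_coheight_eq k d Γ(X, V) hd b
    rw [hb0, height_bot, zero_add, ← hb0, deg_eq_coheight f hV, hb] at h2
    have h3 : height P' ≤ s.card := by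
      rw [← PrimeSpectrum.height_eq_orderHeight]
      exact Ideal.height_le_card_of_mem_minimalPrimes_span_finset hP
    rw [deg_eq_coheight f hV] at h1
    have h4 : (s.card : ℕ∞) = (deg f (hV.fromSpec q) : ℕ∞) := by
      rw [← deg_eq_coheight f hV, ← hscard, hm0, zero_add]
    have h5 : (deg f (genericPoint X) : ℕ∞) ≤ (deg f (hV.fromSpec q) : ℕ∞) + (deg f (hV.fromSpec P') : ℕ∞) := by
      rw [h2, ← h1, ← h4]
      exact add_le_add h3 le_rfl
    exact_mod_cast h5
  · rintro _ ⟨M, haM, rfl⟩ hoy hPy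
    have hle : q.asIdeal ⊔ Ideal.span (s : Set Γ(X, V)) ≤ M.asIdeal :=
      sup_le ((fromSpec_specializes_iff hV q M).1 hoy) (hP.1.2.trans ((fromSpec_specializes_iff hV P' M).1 hPy))
    obtain ⟨Q, hQ, hQM⟩ := Ideal.exists_minimalPrimes_le hle
    have hQm : Q = m.asIdeal := by
      by_contra hne
      have hQF : Q ∈ F := (Set.Finite.mem_toFinset _).2 ⟨hQ, hne⟩
      exact haM (hQM (Ideal.mem_of_dvd _ (Finset.dvd_prod_of_mem g hQF) (hg Q hQF).1))
    have hmax : IsMax m := coheight_eq_zero.1 hm0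
    subst hQm
    exact congrArg hV.fromSpec (PrimeSpectrum.ext (le_antisymm (hmax (b := M) hQM) hQM))

end Groth.Agent.Deform.AVTrace
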