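import Groth.Agent.Deform.AVTrace.Kill
import Mathlib.FieldTheory.PurelyInseparable.Basic
import Mathlib.AlgebraicGeometry.Sites.Fpqc
import Mathlib.AlgebraicGeometry.Pullbacks
import Mathlib.RingTheory.TensorProduct.Finite
import Mathlib.RingTheory.Noetherian.Nilpotent

/-!
# Descent of points of commutative groups along purely inseparable extensions, up to a multiple
-/

set_option autoImplicit false
set_option linter.style.haveILetI false

universe u

open CategoryTheory CategoryTheory.Limits MonoidalCategory CartesianMonoidalCategory AlgebraicGeometry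
open scoped MonObj TensorProduct

attribute [local instance] CategoryTheory.Hom.monoid CategoryTheory.Hom.group

namespace Groth.Agent.Deform.AVTrace

variable {k : Type u} [Field k] {K M : Type u} [Field K] [Field M] [Algebra k K] [Algebra k M] [Algebra K M]
  [IsScalarTower k K M]

/-- A point with values in `M` whose two pullbacks to `M ⊗[K] M` agree comes from `K`. -/
theorem exists_of_equalizer {X : Over (Spec (CommRingCat.of k))} (a : sp k M ⟶ X)
    (h : mapSp ((Algebra.TensorProduct.includeLeft : M →ₐ[K] M ⊗[K] M).restrictScalars k) ≫ a =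
      mapSp ((Algebra.TensorProduct.includeRight : M →ₐ[K] M ⊗[K] M).restrictScalars k) ≫ a) :
    ∃ c : sp k K ⟶ X, mapSp (IsScalarTower.toAlgHom k K M) ≫ c = a := by
  let π : Spec (CommRingCat.of M) ⟶ Spec (CommRingCat.of K) := Spec.map (CommRingCat.ofHom (algebraMap K M))
  haveI : Flat π := by
    rw [HasRingHomProperty.Spec_iff (P := @Flat)]
    exact RingHom.flat_algebraMap_iff.mpr inferInstance
  haveI : Surjective π := ⟨fun x => ⟨(IsLocalRing.closedPoint M : PrimeSpectrum M),
    Subsingleton.elim (α := PrimeSpectrum K) _ _⟩⟩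
  haveI : EffectiveEpi π := inferInstance
  have hag : ∀ {T : Scheme.{u}} (g₁ g₂ : T ⟶ Spec (CommRingCat.of M)), g₁ ≫ π = g₂ ≫ π →
      g₁ ≫ a.left = g₂ ≫ a.left := fun g₁ g₂ hg => by
    have h' : (Spec.map (CommRingCat.ofHom (Algebra.TensorProduct.includeLeftRingHom : M →+* M ⊗[K] M))) ≫ a.left =
        Spec.map (CommRingCat.ofHom (RingHomClass.toRingHom
          (Algebra.TensorProduct.includeRight : M →ₐ[K] M ⊗[K] M))) ≫ a.left := congrArg CommaMorphism.left h
    refine ((congrArg (· ≫ a.left) (pullback.lift_fst g₁ g₂ hg)).symm.trans ?_).trans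
      (congrArg (· ≫ a.left) (pullback.lift_snd g₁ g₂ hg))
    show (_ ≫ pullback.fst π π) ≫ a.left = (_ ≫ pullback.snd π π) ≫ a.left
    rw [Category.assoc, Category.assoc]
    congr 1
    rw [← cancel_epi (pullbackSpecIso K M M).inv, ← Category.assoc, ← Category.assoc]
    exact (congrArg (· ≫ a.left) (pullbackSpecIso_inv_fst K M M)).trans
      (h'.trans (congrArg (· ≫ a.left) (pullbackSpecIso_inv_snd K M M)).symm)
  have hfac := EffectiveEpi.fac π a.left hag
  refine ⟨Over.homMk (EffectiveEpi.desc π a.left hag) ?_, Over.OverMorphism.ext hfac⟩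
  rw [← cancel_epi π, ← Category.assoc, hfac, Over.w a]
  show _ = Spec.map _ ≫ Spec.map _
  rw [← Spec.map_comp]
  exact congrArg Spec.map (CommRingCat.hom_ext (IsScalarTower.algebraMap_eq k K M))

variable [IsPurelyInseparable K M] [Module.Finite K M]

omit [IsScalarTower k K M] [Algebra k M] [Algebra k K] [Module.Finite K M] in
/-- Powers of exponential characteristic bring tensors into the second factor. -/
theorem exists_pow_eq_one_tmul (p : ℕ) [ExpChar K p] (x : M ⊗[K] M) :
    ∃ N, x ^ p ^ N = (1 : M) ⊗ₜ[K] ((Algebra.TensorProduct.lmul' K x) ^ p ^ N) := by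
  let f : M →+* M ⊗[K] M := (Algebra.TensorProduct.includeRight : M →ₐ[K] M ⊗[K] M).toRingHom
  haveI : Nontrivial (M ⊗[K] M) := (Algebra.TensorProduct.lmul' K (S := M)).toRingHom.domain_nontrivial
  haveI : ExpChar (M ⊗[K] M) p := expChar_of_injective_algebraMap (algebraMap K (M ⊗[K] M)).injective p
  suffices h : ∃ N, x ^ p ^ N = f (Algebra.TensorProduct.lmul' K x) ^ p ^ N by
    obtain ⟨N, hN⟩ := h
    exact ⟨N, hN.trans (map_pow f _ _).symm⟩
  induction x using TensorProduct.induction_on with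
  | zero => exact ⟨0, by simp⟩
  | tmul u v =>
    obtain ⟨N, c, hc⟩ := IsPurelyInseparable.pow_mem K p u
    refine ⟨N, ?_⟩
    have e : (u ⊗ₜ[K] (1 : M)) ^ p ^ N = f u ^ p ^ N := by
      rw [← map_pow f, Algebra.TensorProduct.tmul_pow, one_pow, ← hc]
      exact Algebra.TensorProduct.tmul_one_eq_one_tmul c
    rw [Algebra.TensorProduct.lmul'_apply_tmul, show u ⊗ₜ[K] v = (u ⊗ₜ[K] (1 : M)) * f v by simp [f], mul_pow, e,
      ← mul_pow, ← map_mul]
  | add s t hs ht =>
    obtain ⟨N₁, h₁⟩ := hs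
    obtain ⟨N₂, h₂⟩ := ht
    refine ⟨N₁ + N₂, ?_⟩
    have e₁ := congrArg (fun z => z ^ p ^ N₂) h₁
    have e₂ := congrArg (fun z => z ^ p ^ N₁) h₂
    simp only [← pow_mul, ← pow_add] at e₁ e₂
    rw [add_comm N₂ N₁] at e₂
    rw [map_add, map_add, add_pow_expChar_pow, add_pow_expChar_pow, e₁, e₂]

/-- A multiple of every point with values in a finite purely inseparable extension descends. -/
theorem exists_descend_purelyInseparable (A : Over (Spec (CommRingCat.of k))) [GrpObj A] [IsCommMonObj A]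
    [LocallyOfFiniteType A.hom] (a : sp k M ⟶ A) :
    ∃ (e : ℕ) (c : sp k K ⟶ A), 0 < e ∧ mapSp (IsScalarTower.toAlgHom k K M) ≫ c = a ^ e := by
  obtain ⟨p, hp⟩ : ∃ p, ExpChar k p := ⟨ringExpChar k, inferInstance⟩
  haveI := hp
  haveI : ExpChar K p := expChar_of_injective_algebraMap (algebraMap k K).injective p
  let R := M ⊗[K] M
  let mu : R →ₐ[K] M := Algebra.TensorProduct.lmul' K
  haveI : Nontrivial R := mu.toRingHom.domain_nontrivial
  haveI : ExpChar R p := expChar_of_injective_algebraMap (algebraMap K R).injective p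
  have hpow : ∀ x : R, ∃ N, x ^ p ^ N = (1 : M) ⊗ₜ[K] ((mu x) ^ p ^ N) := exists_pow_eq_one_tmul p
  have hker : ∀ x ∈ RingHom.ker mu, ∃ N, x ^ p ^ N = 0 := fun x hx => by
    obtain ⟨N, hN⟩ := hpow x
    refine ⟨N, hN.trans ?_⟩
    rw [show mu x = 0 from hx, zero_pow (pow_ne_zero _ (expChar_ne_zero k p)), TensorProduct.tmul_zero]
  obtain ⟨n, m, hnm, hn⟩ : ∃ n m, n + 1 ≤ p ^ m ∧ RingHom.ker mu ^ (n + 1) = ⊥ := by
    rcases expChar_is_prime_or_one k p with hpr | rfl
    · haveI : IsNoetherianRing R := IsNoetherianRing.of_finite K R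
      have hle : RingHom.ker mu ≤ nilradical R := fun x hx => by
        obtain ⟨N, hN⟩ := hker x hx
        exact mem_nilradical.mpr ⟨_, hN⟩
      obtain ⟨n, hn⟩ := IsNoetherianRing.isNilpotent_nilradical R
      exact ⟨n, n + 1, (Nat.lt_pow_self hpr.one_lt).le,
        le_bot_iff.mp ((Ideal.pow_right_mono hle _).trans (by rw [pow_succ, hn]; simp))⟩
    · refine ⟨0, 0, le_refl _, ?_⟩
      rw [pow_one]
      refine eq_bot_iff.mpr fun x hx => ?_
      obtain ⟨N, hN⟩ := hker x hx
      simpa using hN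
  obtain ⟨e, he, hkill⟩ := exists_kill A p hnm
  let l := (Algebra.TensorProduct.includeLeft : M →ₐ[K] R).restrictScalars k
  let r := (Algebra.TensorProduct.includeRight : M →ₐ[K] R).restrictScalars k
  have hl : (mu.restrictScalars k).comp l = AlgHom.id k M := AlgHom.ext fun x => by
    show mu (x ⊗ₜ[K] 1) = x
    exact (Algebra.TensorProduct.lmul'_apply_tmul _ _).trans (by simp)
  have hr : (mu.restrictScalars k).comp r = AlgHom.id k M := AlgHom.ext fun x => by
    show mu (1 ⊗ₜ[K] x) = x
    exact (Algebra.TensorProduct.lmul'_apply_tmul _ _).trans (by simp)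
  have hd : mapSp (mu.restrictScalars k) ≫ ((mapSp l ≫ a) * (mapSp r ≫ a)⁻¹) = 1 := by
    rw [MonObj.comp_mul, GrpObj.comp_inv, ← Category.assoc, ← Category.assoc, ← mapSp_comp, ← mapSp_comp, hl, hr,
      mul_inv_cancel]
  have h1 := hkill R M (mu.restrictScalars k) (fun x => ⟨x ⊗ₜ[K] 1, by show mu (x ⊗ₜ[K] 1) = x; exact (Algebra.TensorProduct.lmul'_apply_tmul _ _).trans (by simp)⟩) hn _ hd
  rw [mul_pow, inv_pow, mul_inv_eq_one, ← MonObj.comp_pow, ← MonObj.comp_pow] at h1
  obtain ⟨c, hc⟩ := exists_of_equalizer (a ^ e) h1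
  exact ⟨e, c, he, hc⟩

end Groth.Agent.Deform.AVTrace
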