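import Groth.Agent.GrpSchLib.FrobKernel
import Groth.Agent.S4114
import Groth.Agent.S13633
import Mathlib.AlgebraicGeometry.Morphisms.FlatRank
import Mathlib.CategoryTheory.Monoidal.Cartesian.CommGrp_

/-!
# Infinitesimal points of a commutative group are torsion
-/

set_option autoImplicit false
set_option linter.style.haveILetI false

universe u

open CategoryTheory CategoryTheory.Limits MonoidalCategory CartesianMonoidalCategory AlgebraicGeometry
open scoped MonObj

attribute [local instance] CategoryTheory.Hom.monoid CategoryTheory.Hom.group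

namespace Groth.Agent.Deform.AVTrace

open GrpSchLib GrpSchLib.Adjoint GrpSchLib.LineGroups GrpSchLib.Kunneth

variable {k : Type u} [Field k]

/-- The spectrum of an algebra over the field. -/
noncomputable abbrev sp (k : Type u) [Field k] (B : Type u) [CommRing B] [Algebra k B] :
    Over (Spec (CommRingCat.of k)) :=
  Over.mk (Spec.map (CommRingCat.ofHom (algebraMap k B)))

/-- The map of spectra of an algebra map. -/
noncomputable def mapSp {B B' : Type u} [CommRing B] [Algebra k B] [CommRing B'] [Algebra k B'] (f : B →ₐ[k] B') :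
    sp k B' ⟶ sp k B :=
  Over.homMk (Spec.map (CommRingCat.ofHom f.toRingHom)) (by
    show Spec.map _ ≫ Spec.map _ = Spec.map _
    rw [← Spec.map_comp]
    exact congrArg Spec.map (CommRingCat.hom_ext f.comp_algebraMap))

theorem mapSp_left {B B' : Type u} [CommRing B] [Algebra k B] [CommRing B'] [Algebra k B'] (f : B →ₐ[k] B') :
    (mapSp f).left = Spec.map (CommRingCat.ofHom f.toRingHom) := rfl

theorem mapSp_comp {B B' B'' : Type u} [CommRing B] [Algebra k B] [CommRing B'] [Algebra k B'] [CommRing B'']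
    [Algebra k B''] (f : B →ₐ[k] B') (g : B' →ₐ[k] B'') : mapSp (g.comp f) = mapSp g ≫ mapSp f := by
  refine Over.OverMorphism.ext ?_
  show Spec.map _ = Spec.map _ ≫ Spec.map _
  rw [← Spec.map_comp]
  rfl

theorem ev_mapSp {B B' : Type u} [CommRing B] [Algebra k B] [CommRing B'] [Algebra k B'] (f : B →ₐ[k] B') (b : B) :
    ev (mapSp f) (spEquiv (k := k) B b) = spEquiv (k := k) B' (f b) :=
  (ConcreteCategory.congr_hom (Scheme.ΓSpecIso_inv_naturality (CommRingCat.ofHom f.toRingHom)) b).symm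

/-- Points congruent to `1` modulo a nilpotent ideal of bounded order are killed by a fixed integer. -/
theorem exists_kill (A : Over (Spec (CommRingCat.of k))) [GrpObj A] [IsCommMonObj A] [LocallyOfFiniteType A.hom]
    (p : ℕ) [ExpChar k p] {m n : ℕ} (hn : n + 1 ≤ p ^ m) :
    ∃ e : ℕ, 0 < e ∧ ∀ (R R₀ : Type u) [CommRing R] [Algebra k R] [CommRing R₀] [Algebra k R₀] (π : R →ₐ[k] R₀),
      Function.Surjective π → RingHom.ker π ^ (n + 1) = ⊥ →
      ∀ d : sp k R ⟶ A, mapSp π ≫ d = 1 → d ^ e = 1 := by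
  haveI : IsLocallyNoetherian A.left := LocallyOfFiniteType.isLocallyNoetherian A.hom
  obtain ⟨D⟩ := exists_nbhds' A η[A]
  obtain ⟨K, hK, κ, hκ, hκm, hKa, hKl, hKs, -, -, hfac⟩ := FrobKernel.exists_kernel p m A D
  haveI := hKs
  haveI : IsCommMonObj K := S13633.commMonObj_of_mono κ
  haveI : IsFinite K.hom := S13633.isFinite_of_subsingleton K
  haveI : Flat K.hom := S13633.flat_over_field _
  haveI : Surjective K.hom :=
    ⟨fun s => ⟨η[K].left (IsLocalRing.closedPoint k), Subsingleton.elim (α := PrimeSpectrum k) _ _⟩⟩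
  let e := K.hom.finrank (IsLocalRing.closedPoint k)
  have he : 0 < e := (Scheme.Hom.one_le_finrank_iff_surjective K.hom).mpr ‹Surjective K.hom› _
  have hkill : (𝟙 K) ^ e = 1 := S4114.field_case k K e fun y => by
    rw [Subsingleton.elim (α := PrimeSpectrum k) y (IsLocalRing.closedPoint k)]
  obtain ⟨g, hg⟩ := hfac n hn
  refine ⟨e, he, fun R R₀ _ _ _ _ π hπ hker d hd => ?_⟩
  -- the point lands in the neighbourhood
  have hnil : ∀ x ∈ RingHom.ker π, IsNilpotent x := fun x hx =>
    ⟨n + 1, by simpa [hker] using Ideal.pow_mem_pow hx (n + 1)⟩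
  have hsurj : Function.Surjective (mapSp π).left.base := by
    show Function.Surjective (PrimeSpectrum.comap π.toRingHom)
    intro P
    obtain ⟨Q, hQ⟩ : P ∈ Set.range (PrimeSpectrum.comap π.toRingHom) := by
      rw [_root_.range_comap_of_surjective _ π.toRingHom hπ, PrimeSpectrum.mem_zeroLocus]
      exact fun x hx => nilradical_le_prime P.asIdeal (mem_nilradical.mpr (hnil x hx))
    exact ⟨Q, hQ⟩
  have hrange : Set.range d.left ⊆ Set.range D.uι.left := by
    rintro _ ⟨x, rfl⟩
    obtain ⟨y, rfl⟩ := hsurj x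
    refine ⟨D.u₀.left ((toUnit (sp k R₀)).left y), ?_⟩
    have h1 : toUnit (sp k R₀) ≫ D.u₀ ≫ D.uι = mapSp π ≫ d := by
      rw [hd, D.u₀_fac]; rfl
    exact congrArg (fun f : sp k R₀ ⟶ A => f.left y) h1
  let d₀ : sp k R ⟶ D.U := Over.homMk (IsOpenImmersion.lift D.uι.left d.left hrange) (by
    rw [← Over.w D.uι, IsOpenImmersion.lift_fac_assoc, Over.w d])
  have hd₀ : d₀ ≫ D.uι = d := Over.OverMorphism.ext (IsOpenImmersion.lift_fac _ _ _)
  haveI : Mono D.uι := (Over.forget _).mono_of_mono_map (inferInstanceAs (Mono D.uι.left))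
  have hd₁ : mapSp π ≫ d₀ = toUnit _ ≫ D.u₀ := by
    rw [← cancel_mono D.uι, Category.assoc, hd₀, hd, Category.assoc, D.u₀_fac]
    rfl
  -- and factors through the infinitesimal neighbourhood
  have hmem : ∀ a ∈ RingHom.ker (evPt D.u₀),
      (spEquiv (k := k) R).symm (ev d₀ a) ∈ RingHom.ker π := by
    intro a ha
    obtain ⟨r, hr⟩ : ∃ r, ev d₀ a = spEquiv (k := k) R r := ⟨(spEquiv (k := k) R).symm (ev d₀ a), by simp⟩
    rw [hr, AlgEquiv.symm_apply_apply, RingHom.mem_ker]
    refine (spEquiv (k := k) R₀).injective ?_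
    rw [← ev_mapSp, ← hr, ev_ev, hd₁, ← ev_ev, map_zero]
    have : ev D.u₀ a = 0 := by
      apply (ConcreteCategory.bijective_of_isIso (Scheme.ΓSpecIso (CommRingCat.of k)).hom).1
      exact (RingHom.mem_ker.mp ha).trans (map_zero _).symm
    rw [this, map_zero]
  have hle : RingHom.ker (ev (D.j n)) ≤ RingHom.ker (ev d₀) := by
    rw [D.ker]
    calc RingHom.ker (evPt D.u₀) ^ (n + 1)
        ≤ ((RingHom.ker π).comap ((spEquiv (k := k) R).symm.toAlgHom.comp (ev d₀))) ^ (n + 1) :=
          Ideal.pow_right_mono (fun a ha => hmem a ha) _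
      _ ≤ ((RingHom.ker π) ^ (n + 1)).comap ((spEquiv (k := k) R).symm.toAlgHom.comp (ev d₀)) :=
          Ideal.le_comap_pow _ _
      _ ≤ RingHom.ker (ev d₀) := fun a ha => by
        rw [hker, Ideal.mem_comap, Ideal.mem_bot] at ha
        have := congrArg (spEquiv (k := k) R) ha
        simpa using this
  obtain ⟨χ, hχ⟩ : ∃ χ : Fn (D.N n) →ₐ[k] Fn (sp k R), χ.comp (ev (D.j n)) = ev d₀ :=
    ⟨AlgHom.liftOfSurjective (ev (D.j n)) (D.surj n) (ev d₀) hle, AlgHom.liftOfSurjective_comp _ _ _ _⟩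
  obtain ⟨c, hc⟩ := exists_hom_ev (X := D.N n) (T := sp k R) χ
  have hcd : c ≫ D.j n = d₀ := ext_ev (AlgHom.ext fun a => by
    rw [← ev_ev, hc, ← hχ]; rfl)
  calc d ^ e = (((c ≫ g) ≫ 𝟙 K) ≫ κ) ^ e := by
        rw [Category.comp_id, Category.assoc, hg, ← Category.assoc, hcd, hd₀]
    _ = ((c ≫ g) ≫ (𝟙 K) ^ e) ≫ κ := by
        rw [MonObj.comp_pow]
        exact (map_pow (IsMonHom.monoidHom κ (sp k R)) _ e).symm
    _ = 1 := by
        rw [hkill, MonObj.comp_one]
        exact map_one (IsMonHom.monoidHom κ (sp k R))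

end Groth.Agent.Deform.AVTrace
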