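import Groth.Agent.Deform.AVTrace.Core

/-!
# Equivariant morphisms to an abelian variety from a slice of the action
-/

set_option autoImplicit false
set_option linter.style.haveILetI false

universe u

open CategoryTheory CategoryTheory.Limits MonoidalCategory CartesianMonoidalCategory AlgebraicGeometry
open scoped MonObj

attribute [local instance] CategoryTheory.Hom.monoid CategoryTheory.Hom.group

namespace Groth.Agent.Deform.AVTrace

variable {k : Type u} [Field k]

local notation "𝒱" => Over (Spec (CommRingCat.of k))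

/-- A generically finite and dominant slice gives an equivariant morphism. -/
theorem exists_equivariant_of_slice (A X Y' : 𝒱) [GrpObj A] [IsProper A.hom] [Smooth A.hom] [ConnectedSpace A.left]
    [Smooth X.hom] [IsSeparated X.hom] [IsIntegral X.left] [LocallyOfFiniteType Y'.hom] [IsIntegral Y'.left]
    (a : AlgGrp.Action A X) (ι' : Y' ⟶ X) [IsDominant ((A ◁ ι') ≫ a.act).left]
    (hq : ∀ [IsIntegral (A ⊗ Y').left], ((A ◁ ι') ≫ a.act).left.QuasiFiniteAt (genericPoint (A ⊗ Y').left)) :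
    ∃ (φ : X ⟶ A) (n : ℕ), 0 < n ∧ ∀ (T : 𝒱) (g : T ⟶ A) (x : T ⟶ X),
      lift g x ≫ a.act ≫ φ = (x ≫ φ) * g ^ n := by
  haveI : GeometricallyIntegral A.hom := AVFactor.geometricallyIntegral_smooth A
  haveI : IsLocallyNoetherian Y'.left := LocallyOfFiniteType.isLocallyNoetherian Y'.hom
  haveI : IsIntegral (A ⊗ Y').left := inferInstanceAs (IsIntegral (pullback A.hom Y'.hom))
  haveI : LocallyOfFiniteType (A ⊗ Y').hom :=
    inferInstanceAs (LocallyOfFiniteType (pullback.fst A.hom Y'.hom ≫ A.hom))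
  let bact : A ⊗ (A ⊗ Y') ⟶ A ⊗ Y' :=
    lift (fst A (A ⊗ Y') * (snd A (A ⊗ Y') ≫ fst A Y')) (snd A (A ⊗ Y') ≫ snd A Y')
  have hb : ∀ {T : 𝒱} (g h : T ⟶ A) (y : T ⟶ Y'), lift g (lift h y) ≫ bact = lift (g * h) y := fun g h y => by
    simp only [bact, comp_lift, MonObj.comp_mul, lift_fst, lift_snd_assoc, lift_snd]
  let b : AlgGrp.Action A (A ⊗ Y') :=
    { act := bact
      one_act := by
        have h1 : η[A] ▷ (A ⊗ Y') = lift (1 : 𝟙_ 𝒱 ⊗ (A ⊗ Y') ⟶ A)
            (lift (snd _ _ ≫ fst A Y') (snd _ _ ≫ snd A Y')) := by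
          apply hom_ext
          · rw [lift_fst, whiskerRight_fst, Hom.one_def, toUnit_unique (toUnit _) (fst (𝟙_ 𝒱) (A ⊗ Y'))]
          · rw [lift_snd, whiskerRight_snd, ← comp_lift, lift_fst_snd, Category.comp_id]
        rw [h1, hb, _root_.one_mul, ← comp_lift, lift_fst_snd, Category.comp_id, leftUnitor_hom]
      mul_act := by
        let g₁ : (A ⊗ A) ⊗ (A ⊗ Y') ⟶ A := fst _ _ ≫ fst A A
        let g₂ : (A ⊗ A) ⊗ (A ⊗ Y') ⟶ A := fst _ _ ≫ snd A A
        let h : (A ⊗ A) ⊗ (A ⊗ Y') ⟶ A := snd _ _ ≫ fst A Y'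
        let y : (A ⊗ A) ⊗ (A ⊗ Y') ⟶ Y' := snd _ _ ≫ snd A Y'
        have h1 : μ[A] ▷ (A ⊗ Y') = lift (g₁ * g₂) (lift h y) := by
          apply hom_ext
          · rw [lift_fst, whiskerRight_fst]
            simp only [g₁, g₂, Hom.mul_def]
            rw [← comp_lift, lift_fst_snd, Category.comp_id]
          · rw [lift_snd, whiskerRight_snd]
            simp only [h, y]
            rw [← comp_lift, lift_fst_snd, Category.comp_id]
        have h2 : (α_ A A (A ⊗ Y')).hom ≫ A ◁ bact = lift g₁ (lift (g₂ * h) y) := by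
          apply hom_ext
          · simp [g₁]
          · rw [Category.assoc, whiskerLeft_snd, lift_snd, ← Category.assoc,
              show (α_ A A (A ⊗ Y')).hom ≫ snd A (A ⊗ (A ⊗ Y')) = lift g₂ (lift h y) by
                apply hom_ext
                · simp [g₂]
                · apply hom_ext <;> simp [h, y]]
            exact hb _ _ _
        rw [h1, ← Category.assoc (α_ A A (A ⊗ Y')).hom, h2, hb, hb, _root_.mul_assoc] }
  refine exists_equivariant A X (A ⊗ Y') a b ((A ◁ ι') ≫ a.act) ?_ hq (fst A Y') fun T g w => ?_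
  · have h1 : ∀ {T : 𝒱} (g h : T ⟶ A) (y : T ⟶ Y'),
        lift g (lift h y) ≫ bact ≫ (A ◁ ι') ≫ a.act =
          lift g (lift h y ≫ (A ◁ ι') ≫ a.act) ≫ a.act := fun g h y => by
      rw [reassoc_of% (hb g h y), lift_whiskerLeft_assoc, lift_whiskerLeft_assoc, Bundle.act_act]
    have h2 := h1 (fst A (A ⊗ Y')) (snd _ _ ≫ fst A Y') (snd _ _ ≫ snd A Y')
    rw [← comp_lift, lift_fst_snd, Category.comp_id, lift_fst_snd, Category.id_comp] at h2
    exact h2
  · obtain ⟨h, y, rfl⟩ : ∃ (h : T ⟶ A) (y : T ⟶ Y'), w = lift h y :=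
      ⟨w ≫ fst A Y', w ≫ snd A Y', by rw [← comp_lift, lift_fst_snd, Category.comp_id]⟩
    rw [show b.act = bact from rfl, reassoc_of% (hb g h y), lift_fst, lift_fst]

end Groth.Agent.Deform.AVTrace
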