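import Groth.Agent.Deform.AVTrace.Descent
import Mathlib.FieldTheory.SeparableDegree
import Mathlib.FieldTheory.Minpoly.IsConjRoot
import Mathlib.FieldTheory.IsAlgClosed.AlgebraicClosure

/-!
# The trace of a point of a commutative group along a finite field extension
-/

set_option autoImplicit false
set_option linter.style.haveILetI false

universe u

open CategoryTheory CategoryTheory.Limits MonoidalCategory CartesianMonoidalCategory AlgebraicGeometry
open scoped MonObj TensorProduct

attribute [local instance] CategoryTheory.Hom.monoid CategoryTheory.Hom.group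

namespace Groth.Agent.Deform.AVTrace

variable {k : Type u} [Field k]

/-- Precomposition, as a map of monoids. -/
noncomputable def preHom {S : Scheme.{u}} {T T' A : Over S} [GrpObj A] (f : T' ⟶ T) : (T ⟶ A) →* (T' ⟶ A) where
  toFun a := f ≫ a
  map_one' := MonObj.comp_one f
  map_mul' a b := MonObj.comp_mul f a b

theorem preHom_apply {S : Scheme.{u}} {T T' A : Over S} [GrpObj A] (f : T' ⟶ T) (a : T ⟶ A) : preHom f a = f ≫ a := rfl

section

variable {K : Type u} [Field K]

/-- The elements fixed by all automorphisms of an algebraic closure are purely inseparable. -/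
theorem pow_mem_of_fixed {Om : Type u} [Field Om] [Algebra K Om] [IsAlgClosure K Om] (p : ℕ) [ExpChar K p]
    {x : Om} (hx : ∀ τ : Gal(Om/K), τ x = x) : ∃ n : ℕ, x ^ p ^ n ∈ (algebraMap K Om).range := by
  classical
  haveI : IsAlgClosed Om := IsAlgClosure.isAlgClosed K
  haveI : Algebra.IsAlgebraic K Om := IsAlgClosure.isAlgebraic
  haveI : Normal K Om := IsAlgClosure.normal K Om
  refine (minpoly.natSepDegree_eq_one_iff_pow_mem p).1 ?_
  rw [Polynomial.natSepDegree_eq_of_isAlgClosed Om, Finset.card_eq_one]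
  refine ⟨x, Finset.eq_singleton_iff_unique_mem.2 ⟨?_, fun y hy => ?_⟩⟩
  · rw [Multiset.mem_toFinset, Polynomial.mem_aroots]
    exact ⟨minpoly.ne_zero (Algebra.IsIntegral.isIntegral x), minpoly.aeval K x⟩
  · rw [Multiset.mem_toFinset, Polynomial.mem_aroots] at hy
    obtain ⟨τ, hτ⟩ := (isConjRoot_of_aeval_eq_zero (Algebra.IsIntegral.isIntegral x) hy.2).exists_algEquiv
    rw [← hx τ⁻¹, ← hτ]
    exact (τ.symm_apply_apply y).symm

variable [Algebra k K]

/-- A point invariant under the Galois group lives over a finite purely inseparable extension. -/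
theorem exists_purelyInseparable {A : Over (Spec (CommRingCat.of k))} {Om : Type u} [Field Om] [Algebra K Om]
    [Algebra k Om] [IsScalarTower k K Om] [IsAlgClosure K Om] (N : IntermediateField K Om) [FiniteDimensional K N]
    (a : sp k N ⟶ A) (hinv : ∀ τ : Gal(Om/K), mapSp ((τ.toAlgHom.comp N.val).restrictScalars k) ≫ a =
      mapSp (N.val.restrictScalars k) ≫ a) :
    ∃ (M : IntermediateField K Om) (c : sp k M ⟶ A), FiniteDimensional K M ∧ IsPurelyInseparable K M ∧
      mapSp (M.val.restrictScalars k) ≫ c = mapSp (N.val.restrictScalars k) ≫ a := by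
  obtain ⟨_, ⟨U₀, hU, rfl⟩, hyU, -⟩ := A.left.isBasis_affineOpens.exists_subset_of_mem_open
    (Set.mem_univ (a.left (IsLocalRing.closedPoint N))) isOpen_univ
  let U : A.left.Opens := U₀
  replace hU : IsAffineOpen U := hU
  have hrange : Set.range a.left ⊆ Set.range U.ι := by
    rw [Scheme.Opens.range_ι]
    rintro _ ⟨x, rfl⟩
    rw [Subsingleton.elim (α := PrimeSpectrum N) x (IsLocalRing.closedPoint N)]
    exact hyU
  let g := IsOpenImmersion.lift U.ι a.left hrange
  let φ := Spec.preimage (g ≫ hU.isoSpec.hom)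
  have hφ : Spec.map φ ≫ hU.isoSpec.inv ≫ U.ι = a.left := by
    rw [Spec.map_preimage, Category.assoc, Iso.hom_inv_id_assoc, IsOpenImmersion.lift_fac]
  have hfix : ∀ (τ : Gal(Om/K)) (x : Γ(A.left, U)), τ ((φ.hom x : N) : Om) = ((φ.hom x : N) : Om) := by
    intro τ x
    have h : (φ ≫ CommRingCat.ofHom ((τ.toAlgHom.comp N.val).restrictScalars k).toRingHom) =
        φ ≫ CommRingCat.ofHom (N.val.restrictScalars k).toRingHom := by
      apply Spec.map_injective
      rw [Spec.map_comp, Spec.map_comp, ← cancel_mono (hU.isoSpec.inv ≫ U.ι), Category.assoc, Category.assoc, hφ]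
      exact congrArg CommaMorphism.left (hinv τ)
    exact ConcreteCategory.congr_hom h x
  let M : IntermediateField K Om := N ⊓ IntermediateField.fixedField (⊤ : Subgroup Gal(Om/K))
  have hle : M ≤ N := inf_le_left
  letI : Algebra M N := (IntermediateField.inclusion hle).toRingHom.toAlgebra
  haveI : FiniteDimensional K M := FiniteDimensional.of_injective (IntermediateField.inclusion hle).toLinearMap
    (IntermediateField.inclusion hle).injective
  obtain ⟨p, hp⟩ : ∃ p, ExpChar K p := ⟨ringExpChar K, inferInstance⟩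
  haveI := hp
  haveI hpi : IsPurelyInseparable K M := by
    rw [isPurelyInseparable_iff_pow_mem K p]
    intro x
    obtain ⟨n, c, hc⟩ := pow_mem_of_fixed p (x := (x : Om)) fun τ => x.2.2 ⟨τ, trivial⟩
    exact ⟨n, c, Subtype.ext hc⟩
  have hmem : ∀ x : Γ(A.left, U), ((φ.hom x : N) : Om) ∈ M :=
    fun x => ⟨(φ.hom x).2, fun τ => hfix τ.1 x⟩
  let ψ : Γ(A.left, U) →+* M :=
    { toFun := fun x => ⟨_, hmem x⟩
      map_one' := Subtype.ext (by simp)
      map_mul' := fun x y => Subtype.ext (by simp)
      map_zero' := Subtype.ext (by simp)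
      map_add' := fun x y => Subtype.ext (by simp) }
  have hψ : CommRingCat.ofHom ψ ≫ CommRingCat.ofHom (IntermediateField.inclusion hle).toRingHom = φ :=
    CommRingCat.hom_ext (RingHom.ext fun x => rfl)
  let cl : Spec (CommRingCat.of M) ⟶ A.left := Spec.map (CommRingCat.ofHom ψ) ≫ hU.isoSpec.inv ≫ U.ι
  have hcl : Spec.map (CommRingCat.ofHom (IntermediateField.inclusion hle).toRingHom) ≫ cl = a.left := by
    rw [← hφ, ← hψ, Spec.map_comp, Category.assoc]
  refine ⟨M, Over.homMk cl ?_, inferInstance, hpi, ?_⟩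
  · show cl ≫ A.hom = Spec.map (CommRingCat.ofHom (algebraMap k M))
    obtain ⟨r, hr⟩ : ∃ r, Spec.map r = cl ≫ A.hom := ⟨_, Spec.map_preimage _⟩
    rw [← hr]
    congr 1
    refine CommRingCat.hom_ext (RingHom.ext fun x => (IntermediateField.inclusion hle).injective ?_)
    have h : r ≫ CommRingCat.ofHom (IntermediateField.inclusion hle).toRingHom =
        CommRingCat.ofHom (algebraMap k N) := by
      apply Spec.map_injective
      rw [Spec.map_comp, hr, ← Category.assoc, hcl]
      exact Over.w a
    exact ConcreteCategory.congr_hom h x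
  · refine Over.OverMorphism.ext ?_
    show Spec.map _ ≫ cl = Spec.map _ ≫ a.left
    conv_rhs => rw [← hcl]
    simp only [cl, ← Category.assoc, ← Spec.map_comp]
    rfl

/-- The trace: up to a multiple, the product of the conjugates of a point descends. -/
theorem exists_trace (A : Over (Spec (CommRingCat.of k))) [GrpObj A] [IsCommMonObj A] [LocallyOfFiniteType A.hom]
    (L : Type u) [Field L] [Algebra K L] [Algebra k L] [IsScalarTower k K L] [Module.Finite K L] (a : sp k L ⟶ A) :
    ∃ (e : ℕ) (c : sp k K ⟶ A), 0 < e ∧ ∀ (Om : Type u) [Field Om] [IsAlgClosed Om] [Algebra K Om] [Algebra k Om]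
      [IsScalarTower k K Om], mapSp (IsScalarTower.toAlgHom k K Om) ≫ c =
        (∏ σ : L →ₐ[K] Om, mapSp (σ.restrictScalars k) ≫ a) ^ e := by
  classical
  let W := AlgebraicClosure K
  let N : IntermediateField K W := ⨆ σ : L →ₐ[K] W, σ.fieldRange
  haveI : ∀ σ : L →ₐ[K] W, FiniteDimensional K σ.fieldRange := fun σ => σ.toLinearMap.finiteDimensional_range
  haveI : FiniteDimensional K N := IntermediateField.finiteDimensional_iSup_of_finite
  let res : ∀ σ : L →ₐ[K] W, L →ₐ[K] N := fun σ =>
    σ.codRestrict N.toSubalgebra fun x => le_iSup (fun σ : L →ₐ[K] W => σ.fieldRange) σ ⟨x, rfl⟩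
  let b : sp k N ⟶ A := ∏ σ : L →ₐ[K] W, mapSp ((res σ).restrictScalars k) ≫ a
  have hb : ∀ (Om : Type u) [Field Om] [Algebra K Om] [Algebra k Om] [IsScalarTower k K Om] (j : N →ₐ[K] Om),
      mapSp (j.restrictScalars k) ≫ b =
        ∏ σ : L →ₐ[K] W, mapSp ((j.comp (res σ)).restrictScalars k) ≫ a := fun Om _ _ _ _ j => by
    rw [← preHom_apply, map_prod]
    refine Finset.prod_congr rfl fun σ _ => ?_
    rw [preHom_apply, ← Category.assoc, ← mapSp_comp]
    rfl
  have hinv : ∀ τ : Gal(W/K), mapSp ((τ.toAlgHom.comp N.val).restrictScalars k) ≫ b =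
      mapSp (N.val.restrictScalars k) ≫ b := fun τ => by
    rw [hb, hb]
    exact Fintype.prod_equiv (AlgEquiv.arrowCongr AlgEquiv.refl τ) _ _ fun σ => rfl
  obtain ⟨M, b', hfin, hpi, hb'⟩ := exists_purelyInseparable N b hinv
  haveI := hfin
  haveI := hpi
  obtain ⟨e, c, he, hc⟩ := exists_descend_purelyInseparable (K := K) A b'
  refine ⟨e, c, he, fun Om _ _ _ _ _ => ?_⟩
  haveI : Algebra.IsAlgebraic K L := inferInstance
  let j : W →ₐ[K] Om := IsAlgClosed.lift
  have hbij : Function.Bijective fun σ : L →ₐ[K] W => j.comp σ := by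
    rw [Fintype.bijective_iff_injective_and_card]
    refine ⟨fun σ σ' h => AlgHom.ext fun x => j.injective (DFunLike.congr_fun h x), ?_⟩
    rw [← Nat.card_eq_fintype_card, ← Nat.card_eq_fintype_card, ← Field.finSepDegree_eq_of_isAlgClosed,
      ← Field.finSepDegree_eq_of_isAlgClosed]
  have hj : mapSp (IsScalarTower.toAlgHom k K Om) ≫ c = mapSp (j.restrictScalars k) ≫
      mapSp (M.val.restrictScalars k) ≫ mapSp (IsScalarTower.toAlgHom k K M) ≫ c := by
    rw [← Category.assoc, ← Category.assoc, ← mapSp_comp, ← mapSp_comp]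
    congr 2
    exact AlgHom.ext fun x => (j.commutes x).symm
  rw [hj, hc, MonObj.comp_pow, MonObj.comp_pow]
  congr 1
  rw [hb', ← Category.assoc, ← mapSp_comp]
  exact (hb Om (j.comp N.val)).trans (Fintype.prod_bijective _ hbij _ _ fun σ => rfl)

end

end Groth.Agent.Deform.AVTrace
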